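import Mathlib

/-!
Homomorphisms out of `(H × H) ⋊ C₂`, with kernel transport between two targets.
-/

set_option autoImplicit false

namespace Cfsg.Agent.SylowIso

variable (H : Type*) [Group H]

/-- The swap action. -/
def swapAct : Multiplicative (ZMod 2) →* MulAut (H × H) where
  toFun x := if x = 1 then 1 else MulEquiv.prodComm
  map_one' := if_pos rfl
  map_mul' x y := by
    have h2 : (MulEquiv.prodComm : (H × H) ≃* H × H) * MulEquiv.prodComm = 1 := by
      ext ⟨a, b⟩ <;> rfl
    rcases (show ∀ u : Multiplicative (ZMod 2), u = 1 ∨ u = Multiplicative.ofAdd 1 by decide) x with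
      rfl | rfl <;>
    rcases (show ∀ u : Multiplicative (ZMod 2), u = 1 ∨ u = Multiplicative.ofAdd 1 by decide) y with
      rfl | rfl <;>
      simp [h2, show (Multiplicative.ofAdd 1 * Multiplicative.ofAdd 1 : Multiplicative (ZMod 2)) = 1 from rfl]

/-- The wreath product with the group of order two. -/
abbrev Wr := SemidirectProduct (H × H) (Multiplicative (ZMod 2)) (swapAct H)

instance instFintypeWr [Fintype H] : Fintype (Wr H) :=
  Fintype.ofEquiv ((H × H) × Multiplicative (ZMod 2)) SemidirectProduct.equivProd.symm

theorem card_wr : Nat.card (Wr H) = Nat.card H ^ 2 * 2 := by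
  rw [SemidirectProduct.card, Nat.card_prod, Nat.card_eq_fintype_card (α := Multiplicative (ZMod 2))]
  simp [sq]

variable {H} {G : Type*} [Group G]

/-- The image of the swapping element. -/
def swapHom (s : G) (hs : s * s = 1) : Multiplicative (ZMod 2) →* G where
  toFun x := if x = 1 then 1 else s
  map_one' := if_pos rfl
  map_mul' x y := by
    rcases (show ∀ u : Multiplicative (ZMod 2), u = 1 ∨ u = Multiplicative.ofAdd 1 by decide) x with
      rfl | rfl <;>
    rcases (show ∀ u : Multiplicative (ZMod 2), u = 1 ∨ u = Multiplicative.ofAdd 1 by decide) y with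
      rfl | rfl <;>
      simp [hs, show (Multiplicative.ofAdd 1 * Multiplicative.ofAdd 1 : Multiplicative (ZMod 2)) = 1 from rfl]

/-- The base of the wreath product, mapped by `f` and its conjugate under `s`. -/
def baseHom (f : H →* G) (s : G) (hs : s * s = 1) (hc : ∀ a b, f a * (s * f b * s) = s * f b * s * f a) :
    H × H →* G where
  toFun p := f p.1 * (s * f p.2 * s)
  map_one' := by simp [hs]
  map_mul' p q := by
    have e : s * f (p.2 * q.2) * s = (s * f p.2 * s) * (s * f q.2 * s) := by
      rw [map_mul]
      calc s * (f p.2 * f q.2) * s = s * f p.2 * (s * s) * f q.2 * s := by rw [hs]; group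
        _ = _ := by group
    simp only [Prod.fst_mul, Prod.snd_mul]
    rw [map_mul, e]
    calc f p.1 * f q.1 * (s * f p.2 * s * (s * f q.2 * s))
        = f p.1 * (f q.1 * (s * f p.2 * s)) * (s * f q.2 * s) := by group
      _ = f p.1 * (s * f p.2 * s * f q.1) * (s * f q.2 * s) := by rw [hc]
      _ = _ := by group

/-- A homomorphism of the wreath product. -/
def wrHom (f : H →* G) (s : G) (hs : s * s = 1) (hc : ∀ a b, f a * (s * f b * s) = s * f b * s * f a) :
    Wr H →* G :=
  SemidirectProduct.lift (baseHom f s hs hc) (swapHom s hs) fun g => by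
    ext ⟨a, b⟩
    have hi : s⁻¹ = s := inv_eq_of_mul_eq_one_right hs
    rcases (show ∀ u : Multiplicative (ZMod 2), u = 1 ∨ u = Multiplicative.ofAdd 1 by decide) g with
      rfl | rfl
    · simp [baseHom]
    · have hne : (Multiplicative.ofAdd (1 : ZMod 2)) ≠ 1 := by decide
      show f (swapAct H _ (a, b)).1 * (s * f (swapAct H _ (a, b)).2 * s) = _
      simp only [swapAct, MonoidHom.coe_mk, OneHom.coe_mk, if_neg hne, MonoidHom.coe_comp,
        Function.comp_apply, MulEquiv.coe_toMonoidHom, MulAut.conj_apply, swapHom, baseHom]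
      show f b * (s * f a * s) = s * (f a * (s * f b * s)) * s⁻¹
      rw [hc, hi]
      calc s * f a * s * f b = s * f a * s * f b * (s * s) := by rw [hs, mul_one]
        _ = _ := by group

/-- Two homomorphisms with equal kernels have isomorphic images. -/
theorem range_equiv {K A B : Type*} [Group K] [Group A] [Group B] (f : K →* A) (g : K →* B)
    (h : ∀ x, f x = 1 ↔ g x = 1) : Nonempty (f.range ≃* g.range) := by
  have hk : f.ker = g.ker := Subgroup.ext fun x => h x
  exact ⟨(QuotientGroup.quotientKerEquivRange f).symm.trans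
    ((QuotientGroup.quotientMulEquivOfEq hk).trans (QuotientGroup.quotientKerEquivRange g))⟩

/-- A subgroup whose order is the 2-part of the group order is isomorphic to every Sylow 2-subgroup. -/
theorem sylow_equiv_of_card {A : Type*} [Group A] [Finite A] (R : Subgroup A) {k m : ℕ}
    (hR : Nat.card R = 2 ^ k) (hA : Nat.card A = 2 ^ k * m) (hm : ¬ 2 ∣ m) (P : Sylow 2 A) :
    Nonempty (↥(P : Subgroup A) ≃* R) := by
  have : Fact (Nat.Prime 2) := ⟨Nat.prime_two⟩
  have hm0 : m ≠ 0 := fun h => hm (h ▸ dvd_zero 2)
  have hf : (Nat.card A).factorization 2 = k := by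
    rw [hA, Nat.factorization_mul (by positivity) hm0, Nat.Prime.factorization_pow Nat.prime_two,
      Finsupp.add_apply, Finsupp.single_eq_same, Nat.factorization_eq_zero_of_not_dvd hm, add_zero]
  let Q : Sylow 2 A := Sylow.ofCard R (by rw [hR, hf])
  exact ⟨(Sylow.equiv P Q : _)⟩

end Cfsg.Agent.SylowIso
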