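import Mathlib
import Cfsg.Prelude.Def_Classical
import Cfsg.Agent.SylowIso.Wreath

/-!
Models of Sylow 2-subgroups: `Q₈ ≀ 2` in `Sp₄(3)` and modulo its centre in `A₈`, and `D₈ ≀ 2` in
`S₈` and in `O₆⁻(2)`.
-/

set_option autoImplicit false

namespace Cfsg.Agent.SylowIso

open Equiv

/-! ### Quaternion wreath product -/

/-- Left multiplication by `i` on the eight units. -/
def pI : Perm (Fin 8) := (swap 0 2 * swap 2 1 * swap 1 3) * (swap 4 6 * swap 6 5 * swap 5 7)

/-- Left multiplication by `j` on the eight units. -/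
def pJ : Perm (Fin 8) := (swap 0 4 * swap 4 1 * swap 1 5) * (swap 2 7 * swap 7 3 * swap 3 6)

/-- Inversion twisted by the automorphism exchanging `i` and `j`. -/
def pS : alternatingGroup (Fin 8) := ⟨swap 2 5 * swap 3 4, Equiv.Perm.mem_alternatingGroup.2 (by decide +kernel)⟩

/-- The regular action as a function. -/
def qPermFun : QuaternionGroup 2 → Perm (Fin 8)
  | .a k => pI ^ k.val
  | .xa k => pJ * pI ^ k.val

/-- The regular action. -/
def qPerm : QuaternionGroup 2 →* Perm (Fin 8) where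
  toFun := qPermFun
  map_one' := by decide +kernel
  map_mul' := by decide +kernel

/-- The regular action inside the alternating group. -/
def qAlt : QuaternionGroup 2 →* alternatingGroup (Fin 8) :=
  qPerm.codRestrict _ fun h => Equiv.Perm.mem_alternatingGroup.2 (by revert h; decide +kernel)

/-- The two-by-two matrices as a function. -/
def qMatFun : QuaternionGroup 2 → Matrix (Fin 2) (Fin 2) (ZMod 3)
  | .a k => !![0, -1; 1, 0] ^ k.val
  | .xa k => !![1, 1; 1, -1] * !![0, -1; 1, 0] ^ k.val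

/-- A plane acted on by `M`, the other one fixed. -/
def planeMat (M : Matrix (Fin 2) (Fin 2) (ZMod 3)) : Matrix (Fin 2 ⊕ Fin 2) (Fin 2 ⊕ Fin 2) (ZMod 3) :=
  Matrix.of fun x y =>
    match x, y with
    | .inl i, .inl j => if i = 0 then (if j = 0 then M 0 0 else 0) else (if j = 0 then 0 else 1)
    | .inl i, .inr j => if i = 0 ∧ j = 0 then M 0 1 else 0
    | .inr i, .inl j => if i = 0 ∧ j = 0 then M 1 0 else 0
    | .inr i, .inr j => if i = 0 then (if j = 0 then M 1 1 else 0) else (if j = 0 then 0 else 1)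

/-- `Q₈` inside `Sp₄(3)`. -/
def qSp : QuaternionGroup 2 →* Matrix.symplecticGroup (Fin 2) (ZMod 3) where
  toFun h := ⟨planeMat (qMatFun h), by rw [SymplecticGroup.mem_iff]; revert h; decide +kernel⟩
  map_one' := Subtype.ext (by decide +kernel)
  map_mul' a b := Subtype.ext (by revert a b; decide +kernel)

/-- Exchange of the two planes. -/
def sSp : Matrix.symplecticGroup (Fin 2) (ZMod 3) :=
  ⟨Matrix.of fun x y =>
    match x, y with
    | .inl i, .inl j => if i = j then 0 else 1
    | .inl _, .inr _ => 0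
    | .inr _, .inl _ => 0
    | .inr i, .inr j => if i = j then 0 else 1, by rw [SymplecticGroup.mem_iff]; decide +kernel⟩

theorem sSp_sq : sSp * sSp = 1 := Subtype.ext (by decide +kernel)

theorem pS_sq : pS * pS = 1 := by decide +kernel

theorem qAlt_comm : ∀ a b, qAlt a * (pS * qAlt b * pS) = pS * qAlt b * pS * qAlt a := by decide +kernel

theorem qSp_comm (a b : QuaternionGroup 2) :
    qSp a * (sSp * qSp b * sSp) = sSp * qSp b * sSp * qSp a := by
  apply Subtype.ext
  revert a b
  decide +kernel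

/-- The map to the alternating group. -/
def toAlt : Wr (QuaternionGroup 2) →* alternatingGroup (Fin 8) := wrHom qAlt pS pS_sq qAlt_comm

/-- The map to the symplectic group. -/
def toSp : Wr (QuaternionGroup 2) →* Matrix.symplecticGroup (Fin 2) (ZMod 3) :=
  wrHom qSp sSp sSp_sq qSp_comm

/-- The central involution. -/
def zQ : Wr (QuaternionGroup 2) := SemidirectProduct.inl (.a 2, .a 2)

theorem toAlt_ker : ∀ x, toAlt x = 1 ↔ x = 1 ∨ x = zQ := by decide +kernel

theorem toSp_inj : ∀ x, (toSp x).1 = 1 → x = 1 := by decide +kernel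

theorem center_wrQ : ∀ x : Wr (QuaternionGroup 2),
    x * SemidirectProduct.inl (.a 1, 1) = SemidirectProduct.inl (.a 1, 1) * x →
    x * SemidirectProduct.inl (.xa 0, 1) = SemidirectProduct.inl (.xa 0, 1) * x →
    x * SemidirectProduct.inr (Multiplicative.ofAdd 1) = SemidirectProduct.inr (Multiplicative.ofAdd 1) * x →
    x = 1 ∨ x = zQ := by decide +kernel

theorem toSp_zQ : (toSp zQ).1 = -1 := by decide +kernel

/-! ### Dihedral wreath product -/

/-- A four-cycle and a transposition. -/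
def dPermFun : DihedralGroup 4 → Perm (Fin 8)
  | .r k => (swap 0 1 * swap 1 2 * swap 2 3) ^ k.val
  | .sr k => swap 1 3 * (swap 0 1 * swap 1 2 * swap 2 3) ^ k.val

/-- `D₈` on four of the eight points. -/
def dPerm : DihedralGroup 4 →* Perm (Fin 8) where
  toFun := dPermFun
  map_one' := by decide +kernel
  map_mul' := by decide +kernel

/-- Exchange of the two halves. -/
def pH : Perm (Fin 8) := swap 0 4 * swap 1 5 * swap 2 6 * swap 3 7

theorem pH_sq : pH * pH = 1 := by decide +kernel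

theorem dPerm_comm : ∀ a b, dPerm a * (pH * dPerm b * pH) = pH * dPerm b * pH * dPerm a := by
  decide +kernel

/-- The map to the symmetric group. -/
def toSym : Wr (DihedralGroup 4) →* Perm (Fin 8) := wrHom dPerm pH pH_sq dPerm_comm

theorem toSym_inj : ∀ x, toSym x = 1 → x = 1 := by decide +kernel

/-- The index type of `O₆⁻`. -/
abbrev I6 := (Fin 2 ⊕ Fin 2) ⊕ Fin 2

/-- Six-by-six matrices on the index type of `O₆⁻`. -/
def six (M : Matrix (Fin 6) (Fin 6) (ZMod 2)) : Matrix I6 I6 (ZMod 2) :=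
  Matrix.of fun x y => M (num x) (num y)
where
  /-- Numbering of the coordinates. -/
  num : I6 → Fin 6
    | .inl (.inl i) => ![0, 1] i
    | .inl (.inr i) => ![2, 3] i
    | .inr i => ![4, 5] i

/-- Generator of order four. -/
def oR : Matrix I6 I6 (ZMod 2) := six !![1, 0, 1, 0, 1, 1; 0, 1, 0, 0, 0, 0; 1, 1, 0, 0, 0, 0; 0, 1, 1, 1, 0, 1; 1, 1, 0, 0, 0, 1; 0, 1, 0, 0, 1, 1]

/-- Inverting involution. -/
def oT : Matrix I6 I6 (ZMod 2) := six !![0, 1, 0, 1, 1, 1; 1, 1, 1, 0, 1, 0; 0, 1, 0, 1, 0, 1; 1, 0, 1, 1, 1, 0; 1, 0, 1, 0, 0, 0; 0, 1, 1, 1, 0, 0]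

/-- Exchanging involution. -/
def oS : Matrix I6 I6 (ZMod 2) := six !![1, 0, 1, 1, 0, 1; 0, 1, 1, 1, 0, 1; 1, 1, 1, 0, 0, 1; 1, 1, 0, 1, 0, 1; 1, 1, 1, 1, 1, 0; 0, 0, 0, 0, 0, 1]

/-- `D₈` as matrices. -/
def dMatFun : DihedralGroup 4 → Matrix I6 I6 (ZMod 2)
  | .r k => oR ^ k.val
  | .sr k => oT * oR ^ k.val

/-- `D₈` as matrices. -/
def dMat : DihedralGroup 4 →* Matrix I6 I6 (ZMod 2) where
  toFun := dMatFun
  map_one' := by decide +kernel
  map_mul' := by decide +kernel

theorem oS_sq : oS * oS = 1 := by decide +kernel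

/-- The exchanging involution as a unit. -/
def oSu : GL I6 (ZMod 2) := ⟨oS, oS, oS_sq, oS_sq⟩

theorem dMat_comm (a b : DihedralGroup 4) :
    dMat.toHomUnits a * (oSu * dMat.toHomUnits b * oSu) =
      oSu * dMat.toHomUnits b * oSu * dMat.toHomUnits a := by
  apply Units.ext
  show dMat a * (oS * dMat b * oS) = oS * dMat b * oS * dMat a
  revert a b
  decide +kernel

/-- The map to six-dimensional matrices. -/
def toGL : Wr (DihedralGroup 4) →* GL I6 (ZMod 2) :=
  wrHom dMat.toHomUnits oSu (Units.ext oS_sq) dMat_comm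

/-- The quadratic form, evaluated. -/
def q6 (v : I6 → ZMod 2) : ZMod 2 := Cfsg.quadFormMinus 2 (ZMod 2) 1 1 v

theorem q6_gen : ∀ v : I6 → ZMod 2, q6 (oR.mulVec v) = q6 v ∧ q6 (oT.mulVec v) = q6 v ∧
    q6 (oS.mulVec v) = q6 v := by
  decide +kernel

theorem toGL_inj : ∀ x, (toGL x : Matrix I6 I6 (ZMod 2)) = 1 → x = 1 := by decide +kernel

end Cfsg.Agent.SylowIso
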